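/-
Supports of the nonnegative two-variable series attached to complete intersections.
-/
import Mathlib.RingTheory.MvPowerSeries.Basic
import Mathlib.Algebra.BigOperators.Fin
import Mathlib.Data.Nat.Choose.Basic
import Mathlib.Tactic

namespace Groth.Agent.HodgeSeries

open MvPowerSeries Finsupp

abbrev PS := MvPowerSeries (Fin 2) ℤ

/-- exponent of `y^p z^q` -/
noncomputable def ex (p q : ℕ) : Fin 2 →₀ ℕ := single 0 p + single 1 q

@[simp] lemma ex_zero (p q : ℕ) : ex p q 0 = p := by simp [ex]
@[simp] lemma ex_one (p q : ℕ) : ex p q 1 = q := by simp [ex]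

lemma ex_eta (m : Fin 2 →₀ ℕ) : ex (m 0) (m 1) = m := by
  ext i; fin_cases i <;> simp

/-- coefficient of `y^p z^q` -/
noncomputable def co (F : PS) (p q : ℕ) : ℤ := MvPowerSeries.coeff (ex p q) F

/-- nonnegative coefficients -/
def NN (F : PS) : Prop := ∀ p q, 0 ≤ co F p q

/-- support -/
def Supp (F : PS) (p q : ℕ) : Prop := co F p q ≠ 0

lemma co_mul (F G : PS) (p q : ℕ) :
    co (F * G) p q = ∑ m ∈ Finset.HasAntidiagonal.antidiagonal (ex p q),
      co F (m.1 0) (m.1 1) * co G (m.2 0) (m.2 1) := by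
  classical
  simp only [co, ex_eta]
  exact MvPowerSeries.coeff_mul _ _ _

lemma mem_anti {p q : ℕ} {m : (Fin 2 →₀ ℕ) × (Fin 2 →₀ ℕ)}
    (h : m ∈ Finset.HasAntidiagonal.antidiagonal (ex p q)) : m.1 0 + m.2 0 = p ∧ m.1 1 + m.2 1 = q := by
  rw [Finset.mem_antidiagonal] at h
  constructor
  · rw [← Finsupp.add_apply, h, ex_zero]
  · rw [← Finsupp.add_apply, h, ex_one]

lemma ex_mem_anti {p q p₁ q₁ p₂ q₂ : ℕ} (h : p₁ + p₂ = p) (h' : q₁ + q₂ = q) :
    (ex p₁ q₁, ex p₂ q₂) ∈ Finset.HasAntidiagonal.antidiagonal (ex p q) := by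
  rw [Finset.mem_antidiagonal]
  subst h h'
  ext i; fin_cases i <;> simp

lemma NN.mul {F G : PS} (hF : NN F) (hG : NN G) : NN (F * G) := fun p q => by
  rw [co_mul]; exact Finset.sum_nonneg fun _ _ => mul_nonneg (hF _ _) (hG _ _)

lemma supp_mul {F G : PS} (hF : NN F) (hG : NN G) (p q : ℕ) :
    Supp (F * G) p q ↔ ∃ p₁ q₁ p₂ q₂, p₁ + p₂ = p ∧ q₁ + q₂ = q ∧ Supp F p₁ q₁ ∧ Supp G p₂ q₂ := by
  rw [Supp, co_mul, ne_eq, Finset.sum_eq_zero_iff_of_nonneg fun _ _ => mul_nonneg (hF _ _) (hG _ _)]
  push Not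
  constructor
  · rintro ⟨m, hm, hne⟩
    exact ⟨_, _, _, _, (mem_anti hm).1, (mem_anti hm).2, left_ne_zero_of_mul hne, right_ne_zero_of_mul hne⟩
  · rintro ⟨p₁, q₁, p₂, q₂, h, h', h1, h2⟩
    exact ⟨_, ex_mem_anti h h', by simpa using mul_ne_zero h1 h2⟩

lemma co_monomial (p q u v : ℕ) (c : ℤ) :
    co (MvPowerSeries.monomial (ex u v) c) p q = if p = u ∧ q = v then c else 0 := by
  classical
  rw [co, MvPowerSeries.coeff_monomial]
  refine if_congr ⟨fun h => ⟨?_, ?_⟩, fun h => by rw [h.1, h.2]⟩ rfl rfl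
  · simpa using DFunLike.congr_fun h 0
  · simpa using DFunLike.congr_fun h 1

lemma term_eq (c u v : ℕ) :
    (c : PS) * (MvPowerSeries.X 0 : PS) ^ u * (MvPowerSeries.X 1 : PS) ^ v =
      MvPowerSeries.monomial (ex u v) (c : ℤ) := by
  rw [MvPowerSeries.X_pow_eq, MvPowerSeries.X_pow_eq, ← map_natCast (MvPowerSeries.C (σ := Fin 2) (R := ℤ)),
    ← MvPowerSeries.monomial_zero_eq_C_apply, MvPowerSeries.monomial_mul_monomial,
    MvPowerSeries.monomial_mul_monomial]
  simp [ex]

/-- the series `∑ f(u,v) y^u z^v` -/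
noncomputable def polySer (N : ℕ) (P : ℕ → ℕ → Prop) [∀ u v, Decidable (P u v)] (f : ℕ → ℕ → ℕ) : PS :=
  ∑ u ∈ Finset.range N, ∑ v ∈ Finset.range N,
    if P u v then (f u v : PS) * (MvPowerSeries.X 0 : PS) ^ u * (MvPowerSeries.X 1 : PS) ^ v else 0

lemma co_polySer (N : ℕ) (P : ℕ → ℕ → Prop) [∀ u v, Decidable (P u v)] (f : ℕ → ℕ → ℕ) (p q : ℕ) :
    co (polySer N P f) p q = if p < N ∧ q < N ∧ P p q then (f p q : ℤ) else 0 := by
  rw [polySer]
  simp only [term_eq]
  simp only [co, map_sum]
  have : ∀ u v, MvPowerSeries.coeff (ex p q)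
      (if P u v then MvPowerSeries.monomial (ex u v) (f u v : ℤ) else 0) =
      if p = u ∧ q = v then (if P u v then (f u v : ℤ) else 0) else 0 := fun u v => by
    by_cases h : P u v
    · simp only [if_pos h]; exact co_monomial p q u v _
    · simp [h]
  simp only [this, ite_and, Finset.sum_ite_irrel, Finset.sum_const_zero, Finset.sum_ite_eq,
    Finset.mem_range]

/-- the denominator series -/
noncomputable def Pser (b : ℕ) : PS :=
  polySer (b + 1) (fun u v => 1 ≤ u ∧ 1 ≤ v ∧ u + v ≤ b) (fun u v => b.choose (u + v))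

/-- the numerator series -/
noncomputable def Nser (b : ℕ) : PS :=
  polySer b (fun u v => u + v + 1 ≤ b - 1) (fun u v => (b - 1).choose (u + v + 1))

lemma nn_Pser (b : ℕ) : NN (Pser b) := fun p q => by
  rw [Pser, co_polySer]; split_ifs <;> simp

lemma supp_Pser (b p q : ℕ) : Supp (Pser b) p q ↔ 1 ≤ p ∧ 1 ≤ q ∧ p + q ≤ b := by
  rw [Supp, Pser, co_polySer]
  constructor
  · intro h
    split_ifs at h with h'
    · exact h'.2.2
    · exact absurd rfl h
  · intro h
    rw [if_pos ⟨by omega, by omega, h⟩]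
    exact_mod_cast (Nat.choose_pos h.2.2).ne'

lemma nn_Nser (b : ℕ) : NN (Nser b) := fun p q => by
  rw [Nser, co_polySer]; split_ifs <;> simp

lemma supp_Nser (b p q : ℕ) : Supp (Nser b) p q ↔ p + q + 2 ≤ b := by
  rw [Supp, Nser, co_polySer]
  constructor
  · intro h
    split_ifs at h with h'
    · have := h'.2.2; omega
    · exact absurd rfl h
  · intro h
    rw [if_pos ⟨by omega, by omega, by omega⟩]
    exact_mod_cast (Nat.choose_pos (by omega)).ne'

/-- support of a hypersurface series -/
lemma hyp_series (b : ℕ) (H : PS) (hH : (1 - Pser b) * H = Nser b) :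
    NN H ∧ ∀ p q, Supp H p q ↔ p + q + 2 ≤ b + b * min p q := by
  have hrec : ∀ p q, co H p q = co (Nser b) p q + co (Pser b * H) p q := fun p q => by
    have : H = Nser b + Pser b * H := by rw [← hH]; ring
    conv_lhs => rw [this]
    exact map_add _ _ _
  have key : ∀ n p q, p + q = n → 0 ≤ co H p q ∧ (Supp H p q ↔ p + q + 2 ≤ b + b * min p q) := by
    intro n
    induction n using Nat.strong_induction_on with
    | _ n ih =>
      intro p q hn
      rw [Supp, hrec p q, co_mul]
      have hterm : ∀ m ∈ Finset.HasAntidiagonal.antidiagonal (ex p q),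
          0 ≤ co (Pser b) (m.1 0) (m.1 1) * co H (m.2 0) (m.2 1) := by
        intro m hm
        by_cases h : Supp (Pser b) (m.1 0) (m.1 1)
        · have := mem_anti hm
          have := (supp_Pser _ _ _).1 h
          exact mul_nonneg (nn_Pser _ _ _) (ih (m.2 0 + m.2 1) (by omega) _ _ rfl).1
        · rw [Supp, not_ne_iff] at h; simp [h]
      have hsum := Finset.sum_nonneg hterm
      have hN := nn_Nser b p q
      refine ⟨by linarith, ?_⟩
      rw [ne_eq, add_eq_zero_iff_of_nonneg hN hsum, Finset.sum_eq_zero_iff_of_nonneg hterm]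
      constructor
      · intro h
        by_contra hc
        apply h
        refine ⟨?_, fun m hm => ?_⟩
        · by_contra h0
          exact hc (le_trans ((supp_Nser b p q).1 h0) (Nat.le_add_right _ _))
        · by_contra h0
          obtain ⟨e1, e2⟩ := mem_anti hm
          have h1 := (supp_Pser _ _ _).1 (left_ne_zero_of_mul h0)
          have h2 := (ih (m.2 0 + m.2 1) (by omega) _ _ rfl).2.1 (right_ne_zero_of_mul h0)
          apply hc
          have hmin : min (m.2 0) (m.2 1) + 1 ≤ min p q := by omega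
          have := Nat.mul_le_mul_left b hmin
          rw [Nat.mul_add, Nat.mul_one] at this
          omega
      · intro hc h
        obtain ⟨h1, h2⟩ := h
        rcases Nat.lt_or_ge b (p + q + 2) with hb | hb
        swap
        · exact (supp_Nser b p q).2 hb h1
        have hk : 1 ≤ min p q := by
          rcases Nat.eq_zero_or_pos (min p q) with h0 | h0
          · rw [h0, Nat.mul_zero] at hc; omega
          · exact h0
        have hb2 : 2 ≤ b := by
          by_contra hlt
          have : b * min p q ≤ 1 * min p q := Nat.mul_le_mul_right _ (by omega)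
          omega
        obtain ⟨u, v, hu, hv, huv, hup, hvq, hmin, hsum⟩ : ∃ u v, 1 ≤ u ∧ 1 ≤ v ∧ u + v ≤ b ∧ u ≤ p ∧ v ≤ q ∧
            min (p - u) (q - v) = min p q - 1 ∧
            (u + v = b ∨ (p - u = min p q - 1 ∧ q - v = min p q - 1)) := by
          rcases le_total p q with hpq | hpq
          · exact ⟨1, 1 + min (b - 2) (q - p), le_rfl, by omega, by omega, by omega, by omega, by omega, by omega⟩
          · exact ⟨1 + min (b - 2) (p - q), 1, by omega, le_rfl, by omega, by omega, by omega, by omega, by omega⟩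
        have h0 := h2 _ (ex_mem_anti (p₁ := u) (q₁ := v) (p₂ := p - u) (q₂ := q - v) (by omega) (by omega))
        simp only [ex_zero, ex_one] at h0
        refine mul_ne_zero ((supp_Pser b u v).2 ⟨hu, hv, huv⟩)
          ((ih (p - u + (q - v)) (by omega) _ _ rfl).2.2 ?_) h0
        rw [hmin]
        obtain ⟨k, hkk⟩ : ∃ k, min p q = k + 1 := ⟨min p q - 1, by omega⟩
        rw [hkk] at hc hsum ⊢
        simp only [Nat.add_sub_cancel] at hsum ⊢
        rw [Nat.mul_add, Nat.mul_one] at hc
        rcases hsum with hs | ⟨e1, e2⟩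
        · omega
        · rw [e1, e2]
          have := Nat.mul_le_mul_right k hb2
          omega
  exact ⟨fun p q => (key _ p q rfl).1, fun p q => (key _ p q rfl).2⟩

/-- the factor `(1+y)(1+z)` -/
noncomputable def sq : PS := (1 + MvPowerSeries.X 0) * (1 + MvPowerSeries.X 1)

lemma co_sq (p q : ℕ) : co sq p q = if p ≤ 1 ∧ q ≤ 1 then 1 else 0 := by
  have h : sq = polySer 2 (fun _ _ => True) (fun _ _ => 1) := by
    simp only [sq, polySer, if_true, Finset.sum_range_succ, Finset.sum_range_zero, pow_zero,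
      pow_one, Nat.cast_one]
    ring
  rw [h, co_polySer]
  simp only [and_true, Nat.cast_one]
  exact if_congr (by omega) rfl rfl

lemma pow_sq (n : ℕ) : NN (sq ^ n) ∧ ∀ p q, Supp (sq ^ n) p q ↔ p ≤ n ∧ q ≤ n := by
  have hsq : NN sq := fun p q => by rw [co_sq]; split_ifs <;> simp
  induction n with
  | zero =>
    have h1 : ∀ p q, co (1 : PS) p q = if p = 0 ∧ q = 0 then 1 else 0 := fun p q => by
      rw [← co_monomial p q 0 0 1]
      simp [co, ex, MvPowerSeries.monomial_zero_eq_C_apply]
    simp only [pow_zero]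
    exact ⟨fun p q => by rw [h1]; split_ifs <;> simp, fun p q => by simp [Supp, h1]⟩
  | succ n ih =>
    rw [pow_succ]
    refine ⟨ih.1.mul hsq, fun p q => ?_⟩
    rw [supp_mul ih.1 hsq]
    constructor
    · rintro ⟨p₁, q₁, p₂, q₂, rfl, rfl, h1, h2⟩
      rw [ih.2] at h1
      simp only [Supp, co_sq, ne_eq, ite_eq_right_iff, one_ne_zero, imp_false, not_not] at h2
      omega
    · intro h
      exact ⟨p - min p 1, q - min q 1, min p 1, min q 1, by omega, by omega, (ih.2 _ _).2 (by omega),
        by simp [Supp, co_sq]⟩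

/-- the criterion for complete intersections -/
theorem ci_series {d : ℕ} (a : Fin d → ℕ) (ha : ∀ i, 1 ≤ a i) (Hs : Fin d → PS)
    (hHs : ∀ i, (1 - Pser (a i)) * Hs i = Nser (a i)) (p q : ℕ) (hpq : p ≤ q) :
    co (∑ P ∈ (Finset.univ : Finset (Fin d)).powerset with P.Nonempty,
      sq ^ (P.card - 1) * ∏ i ∈ P, Hs i) p q ≠ 0 ↔
      p + q + d < p * Finset.univ.sup a + ∑ i, a i := by
  classical
  set M := Finset.univ.sup a
  have hM : ∀ i, a i ≤ M := fun i => Finset.le_sup (Finset.mem_univ i)
  have hH := fun i => hyp_series _ _ (hHs i)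
  have hnnP : ∀ P : Finset (Fin d), NN (∏ i ∈ P, Hs i) := by
    intro P
    induction P using Finset.induction with
    | empty =>
      intro p q
      have := (pow_sq 0).1 p q
      simpa using this
    | insert j P hj ih => rw [Finset.prod_insert hj]; exact (hH j).1.mul ih
  have hnec : ∀ (P : Finset (Fin d)) p q, Supp (∏ i ∈ P, Hs i) p q →
      p + q + 2 * P.card ≤ (∑ i ∈ P, a i) + M * min p q := by
    intro P
    induction P using Finset.induction with
    | empty =>
      intro p q h
      have := ((pow_sq 0).2 p q).1 (by simpa using h)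
      simp
      omega
    | insert j P hj ih =>
      intro p q h
      rw [Finset.prod_insert hj, supp_mul (hH j).1 (hnnP P)] at h
      obtain ⟨p₁, q₁, p₂, q₂, rfl, rfl, h1, h2⟩ := h
      rw [(hH j).2] at h1
      have h3 := ih _ _ h2
      rw [Finset.card_insert_of_notMem hj, Finset.sum_insert hj]
      have h4 := Nat.mul_le_mul_right (min p₁ q₁) (hM j)
      have h5 := Nat.mul_le_mul_left M
        (show min p₁ q₁ + min p₂ q₂ ≤ min (p₁ + p₂) (q₁ + q₂) by omega)
      rw [Nat.mul_add] at h5
      omega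
  have hnn : ∀ P ∈ ((Finset.univ : Finset (Fin d)).powerset.filter Finset.Nonempty),
      0 ≤ co (sq ^ (P.card - 1) * ∏ i ∈ P, Hs i) p q :=
    fun P _ => (pow_sq _).1.mul (hnnP P) p q
  simp only [co] at hnn
  rw [co, map_sum, ne_eq, Finset.sum_eq_zero_iff_of_nonneg hnn]
  push Not
  constructor
  · rintro ⟨P, hP, hne⟩
    simp only [Finset.mem_filter] at hP
    obtain ⟨p₁, q₁, p₂, q₂, e1, e2, h1, h2⟩ := (supp_mul (pow_sq _).1 (hnnP P) p q).1 hne
    rw [(pow_sq _).2] at h1
    have h3 := hnec P _ _ h2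
    have hc : 1 ≤ P.card := hP.2.card_pos
    have h5 := Nat.mul_le_mul_left M (show min p₂ q₂ + p₁ ≤ p by omega)
    rw [Nat.mul_add] at h5
    obtain ⟨i, -⟩ := hP.2
    have hM1 : 1 ≤ M := (ha i).trans (hM i)
    have h6 : p₁ ≤ M * p₁ := Nat.le_mul_of_pos_left _ hM1
    have h7 : (∑ i ∈ P, a i) + (d - P.card) ≤ ∑ i, a i := by
      rw [← Finset.sum_add_sum_compl P a]
      have : (Pᶜ : Finset (Fin d)).card • 1 ≤ ∑ i ∈ Pᶜ, a i := Finset.card_nsmul_le_sum _ _ _ fun i _ => ha i
      rw [Finset.card_compl, Fintype.card_fin, smul_eq_mul, mul_one] at this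
      omega
    have h8 : P.card ≤ d := le_trans P.card_le_univ (by simp)
    rw [mul_comm p M]
    omega
  · intro h
    let T := (Finset.univ : Finset (Fin d)).filter (fun i => 2 ≤ a i)
    have hT : (∑ i ∈ T, a i) + (d - T.card) = ∑ i, a i := by
      rw [← Finset.sum_add_sum_compl T a]
      congr 1
      rw [Finset.sum_congr rfl (g := fun _ => 1) fun i hi => by
        simp [T] at hi; have := ha i; omega]
      simp [Finset.card_compl]
    have hTd : T.card ≤ d := le_trans T.card_le_univ (by simp)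
    have hne : T.Nonempty := by
      by_contra h0
      rw [Finset.not_nonempty_iff_eq_empty] at h0
      have h1 : M ≤ 1 := Finset.sup_le fun i _ => by
        by_contra h'
        have : i ∈ T := Finset.mem_filter.2 ⟨Finset.mem_univ i, by omega⟩
        simp [h0] at this
      have := Nat.mul_le_mul_left p h1
      rw [h0] at hT; simp at hT
      omega
    obtain ⟨i₀, hi₀, hmax⟩ := Finset.exists_max_image T a hne
    have hMi : M = a i₀ := le_antisymm (Finset.sup_le fun i _ => by
      by_cases hi : i ∈ T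
      · exact hmax i hi
      · simp [T] at hi hi₀; omega) (hM i₀)
    have hM2 : 2 ≤ M := hMi ▸ (Finset.mem_filter.1 hi₀).2
    have hsuff : ∀ Q : Finset (Fin d), Q ⊆ T.erase i₀ → ∀ s, s + p + 2 * (Q.card + 1) ≤
          (∑ i ∈ Q, a i) + M + M * p → p ≤ s → Supp (Hs i₀ * ∏ i ∈ Q, Hs i) p s := by
      intro Q
      induction Q using Finset.induction with
      | empty =>
        intro _ s hs hps
        rw [Finset.prod_empty, mul_one, (hH i₀).2, ← hMi, min_eq_left hps]
        simp at hs
        omega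
      | insert j Q hj ih =>
        intro hsub s hs hps
        have hjT : 2 ≤ a j :=
          (Finset.mem_filter.1 (Finset.mem_of_mem_erase (hsub (Finset.mem_insert_self j Q)))).2
        rw [Finset.card_insert_of_notMem hj, Finset.sum_insert hj] at hs
        rw [Finset.prod_insert hj, mul_left_comm, supp_mul (hH j).1 ((hH i₀).1.mul (hnnP Q))]
        refine ⟨0, min (a j - 2) (s - p), p, s - min (a j - 2) (s - p), by omega, by omega, ?_, ?_⟩
        · rw [(hH j).2]; omega
        · have hQ : 2 * Q.card ≤ ∑ i ∈ Q, a i := by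
            have := Finset.card_nsmul_le_sum Q (fun i => a i) 2 fun i hi =>
              (Finset.mem_filter.1 (Finset.mem_of_mem_erase (hsub (Finset.mem_insert_of_mem hi)))).2
            rw [smul_eq_mul] at this; omega
          have hp2 : p * 2 ≤ M * p := by rw [mul_comm p 2]; exact Nat.mul_le_mul_right p hM2
          exact ih ((Finset.subset_insert j Q).trans hsub) _ (by omega) (by omega)
    refine ⟨T, Finset.mem_filter.2 ⟨Finset.mem_powerset.2 (Finset.subset_univ _), hne⟩, ?_⟩
    refine (supp_mul (pow_sq _).1 (hnnP T) p q).2 ⟨0, min (T.card - 1) (q - p), p,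
      q - min (T.card - 1) (q - p), by omega, by omega, ((pow_sq _).2 _ _).2 (by omega), ?_⟩
    rw [← Finset.insert_erase hi₀, Finset.prod_insert (Finset.notMem_erase _ _)]
    have hs1 := Finset.add_sum_erase T a hi₀
    rw [← hMi] at hs1
    have hc := hne.card_pos
    have hQ : 2 * (T.erase i₀).card ≤ ∑ i ∈ T.erase i₀, a i := by
      have := Finset.card_nsmul_le_sum (T.erase i₀) (fun i => a i) 2 fun i hi =>
        (Finset.mem_filter.1 (Finset.mem_of_mem_erase hi)).2
      rw [smul_eq_mul] at this; omega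
    have hp2 : p * 2 ≤ M * p := by rw [mul_comm p 2]; exact Nat.mul_le_mul_right p hM2
    rw [mul_comm p M] at h
    have hcard : (T.erase i₀).card = T.card - 1 := Finset.card_erase_of_mem hi₀
    refine hsuff _ subset_rfl _ ?_ ?_
    · rw [hcard, Finset.insert_erase hi₀]
      omega
    · rw [Finset.insert_erase hi₀]
      omega

end Groth.Agent.HodgeSeries
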